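import Mathlib.Algebra.BigOperators.Fin
import Mathlib.Tactic.Ring
import Mathlib.Tactic.LinearCombination

/-!
# A bidiagonal matrix and its maximal minors

`a : Fin N → ℕ`, `A_i = ∑_{j < i} a_j`, `B_i = ∑_{j ≥ i} a_j`.  For `u, v` in a ring with `u = 1` or `v = 1` the sequence
`R → R^{N+1} → R^N`, `g ↦ (g u^{A_i} v^{B_i})`, `s ↦ (u^{a_j} s_j - v^{a_j} s_{j+1})`, is exact and the second map is
surjective.
-/

set_option autoImplicit false

namespace K581.LineAlg

variable {N : ℕ} (a : Fin N → ℕ)

/-- `A_i = ∑_{j < i} a_j` -/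
def pA (i : Fin (N + 1)) : ℕ := Fin.partialSum a i

theorem pA_zero : pA a 0 = 0 := Fin.partialSum_zero a

theorem pA_succ (j : Fin N) : pA a j.succ = pA a j.castSucc + a j := Fin.partialSum_succ a j

theorem pA_last : pA a (Fin.last N) = ∑ j, a j := by
  rw [pA, Fin.partialSum, Fin.val_last, List.take_of_length_le (by simp), List.sum_ofFn]

theorem pA_le (i : Fin (N + 1)) : pA a i ≤ ∑ j, a j := by
  rw [← pA_last]
  induction i using Fin.reverseInduction with
  | last => exact le_rfl
  | cast j ih => exact le_trans (by rw [pA_succ]; omega) ih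

/-- `B_i = ∑_{j ≥ i} a_j` -/
def pB (i : Fin (N + 1)) : ℕ := (∑ j, a j) - pA a i

theorem pA_add_pB (i : Fin (N + 1)) : pA a i + pB a i = ∑ j, a j := by
  have := pA_le a i
  rw [pB]
  omega

theorem pB_zero : pB a 0 = ∑ j, a j := by
  have := pA_add_pB a 0
  rwa [pA_zero, zero_add] at this

theorem pB_last : pB a (Fin.last N) = 0 := by
  have := pA_add_pB a (Fin.last N)
  rw [pA_last] at this
  omega

theorem pB_castSucc (j : Fin N) : pB a j.castSucc = pB a j.succ + a j := by
  have h1 := pA_add_pB a j.castSucc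
  have h2 := pA_add_pB a j.succ
  rw [pA_succ] at h2
  omega

variable {R : Type*} [CommRing R] {u v : R}

theorem rel (j : Fin N) : u ^ a j * (u ^ pA a j.castSucc * v ^ pB a j.castSucc) =
    v ^ a j * (u ^ pA a j.succ * v ^ pB a j.succ) := by
  rw [pA_succ, pB_castSucc, pow_add, pow_add]
  ring

theorem exists_of_ker (h : u = 1 ∨ v = 1) (s : Fin (N + 1) → R)
    (hs : ∀ j : Fin N, u ^ a j * s j.castSucc - v ^ a j * s j.succ = 0) :
    ∃ g : R, ∀ i, s i = g * (u ^ pA a i * v ^ pB a i) := by
  rcases h with rfl | rfl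
  · refine ⟨s (Fin.last N), fun i => ?_⟩
    rw [one_pow, one_mul]
    induction i using Fin.reverseInduction with
    | last => rw [pB_last, pow_zero, mul_one]
    | cast j ih =>
      have h1 := hs j
      rw [one_pow, one_mul, sub_eq_zero] at h1
      rw [h1, ih, pB_castSucc, pow_add]
      ring
  · refine ⟨s 0, fun i => ?_⟩
    rw [one_pow, mul_one]
    induction i using Fin.induction with
    | zero => rw [pA_zero, pow_zero, mul_one]
    | succ j ih =>
      have h1 := hs j
      rw [one_pow, one_mul, sub_eq_zero] at h1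
      rw [← h1, ih, pA_succ, pow_add]
      ring

theorem exists_sol (h : u = 1 ∨ v = 1) (w : Fin N → R) :
    ∃ s : Fin (N + 1) → R, ∀ j : Fin N, u ^ a j * s j.castSucc - v ^ a j * s j.succ = w j := by
  rcases h with rfl | rfl
  · refine ⟨fun i => Fin.reverseInduction (motive := fun _ => R) 0 (fun j x => w j + v ^ a j * x) i, fun j => ?_⟩
    beta_reduce
    rw [Fin.reverseInduction_castSucc]
    ring
  · refine ⟨fun i => Fin.induction (motive := fun _ => R) 0 (fun j x => u ^ a j * x - w j) i, fun j => ?_⟩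
    beta_reduce
    rw [Fin.induction_succ]
    ring

end K581.LineAlg
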