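import Groth.Agent.Fano.K581.LineAlg
import Groth.Agent.Fano.K715.Res
import Groth.Agent.Fano.K715.SumSec

/-!
# The exact sequence `O(c) → O(-1)^{N+1} → ⊕ O(t_j) → 0` on `P^1`

`t_j = -1 + a_j`, `c = -1 - ∑ a_j`; the maps are given by the forms `x_0^{A_i} x_1^{B_i}` and the bidiagonal matrix with
entries `x_0^{a_j}`, `-x_1^{a_j}`.
-/

set_option autoImplicit false

universe u

open CategoryTheory CategoryTheory.Limits AlgebraicGeometry TopologicalSpace Opposite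

namespace K581.LineExact

open LefPen K715.Geo K715.Gens K715.Pair K715.Res K715.SumSec K581.LineAlg
open Groth.Agent.Lefpen.H705.HypIdeal Groth.Agent.Lefpen.H705.ChartPoly
open Groth.Agent.Fdesc.LocGen Groth.Agent.Sga5

variable (k : Type u) [Field k] {N : ℕ} (a : Fin N → ℕ)

/-- `x_m ^ p` -/
noncomputable def xp (m : Fin 2) (p : ℕ) : Form 1 k p :=
  ⟨MvPolynomial.X m ^ p, by
    rw [MvPolynomial.mem_homogeneousSubmodule]
    simpa using (MvPolynomial.isHomogeneous_X k m).pow p⟩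

/-- `x_0 ^ A_i x_1 ^ B_i` -/
noncomputable def mi {D : ℕ} (hD : ∑ j, a j = D) (i : Fin (N + 1)) : Form 1 k D :=
  ⟨MvPolynomial.X 0 ^ pA a i * MvPolynomial.X 1 ^ pB a i, by
    rw [MvPolynomial.mem_homogeneousSubmodule, ← hD, ← pA_add_pB a i]
    have h1 := (MvPolynomial.isHomogeneous_X k (0 : Fin 2)).pow (pA a i)
    have h2 := (MvPolynomial.isHomogeneous_X k (1 : Fin 2)).pow (pB a i)
    rw [one_mul] at h1 h2
    exact h1.mul h2⟩

/-- `O(-1)^{N+1}` -/
noncomputable abbrev F0 (N : ℕ) : (CohB1.ProjSpace 1 k).Modules := ∐ fun _ : Fin (N + 1) => OO 1 k (-1)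

/-- `⊕ O(t_j)` -/
noncomputable abbrev F1 (t : Fin N → ℤ) : (CohB1.ProjSpace 1 k).Modules := ∐ fun j : Fin N => OO 1 k (t j)

variable {c : ℤ} {D : ℕ} (hD : ∑ j, a j = D) (hc : -1 = c + D) {t : Fin N → ℤ} (ht : ∀ j, t j = -1 + a j)

/-- The first map. -/
noncomputable def mm : OO 1 k c ⟶ F0 k N :=
  ∑ i, mulF (mi k a hD i) c (-1) hc ≫ Sigma.ι (fun _ : Fin (N + 1) => OO 1 k (-1)) i

/-- The second map. -/
noncomputable def MM : F0 k N ⟶ F1 k t :=
  ∑ j : Fin N, (Sigma.π (fun _ : Fin (N + 1) => OO 1 k (-1)) j.castSucc ≫ mulF (xp k 0 (a j)) (-1) (t j) (ht j) -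
    Sigma.π (fun _ : Fin (N + 1) => OO 1 k (-1)) j.succ ≫ mulF (xp k 1 (a j)) (-1) (t j) (ht j)) ≫
      Sigma.ι (fun j : Fin N => OO 1 k (t j)) j

section coords

variable {k} (j₀ : Fin 2) {U : (CohB1.ProjSpace 1 k).Opens} (hU : U ≤ chart 1 k j₀)

theorem rho_unit : rho j₀ hU (MvPolynomial.X 0) = 1 ∨ rho j₀ hU (MvPolynomial.X 1) = 1 := by
  have h : rho j₀ hU (MvPolynomial.X j₀) = 1 := by
    rw [rho, RingHom.comp_apply, ProjChart.dehom_X_self, map_one]
  fin_cases j₀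
  · exact Or.inl h
  · exact Or.inr h

/-- The section with given coordinates. -/
noncomputable def sec {M : ℕ} (t : Fin M → ℤ) (s : Fin M → Γ(CohB1.ProjSpace 1 k, U)) :
    Γ(∐ fun i : Fin M => OO 1 k (t i), U) :=
  ∑ i, inS (fun i : Fin M => OO 1 k (t i)) i (s i • eg j₀ (t i) hU)

theorem exists_sec {M : ℕ} (t : Fin M → ℤ) (y : Γ(∐ fun i : Fin M => OO 1 k (t i), U)) :
    ∃ s : Fin M → Γ(CohB1.ProjSpace 1 k, U), y = sec j₀ hU t s := by
  have h1 : ∀ i, ∃ r : Γ(CohB1.ProjSpace 1 k, U), prS (fun i : Fin M => OO 1 k (t i)) i y = r • eg j₀ (t i) hU :=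
    fun i => exists_smul_eg j₀ hU _
  choose s hs using h1
  refine ⟨s, ?_⟩
  rw [sec]
  refine (eq_sum (fun i : Fin M => OO 1 k (t i)) y).trans ?_
  exact Finset.sum_congr rfl fun i _ => by rw [hs]

theorem prS_sec {M : ℕ} (t : Fin M → ℤ) (s : Fin M → Γ(CohB1.ProjSpace 1 k, U)) (i : Fin M) :
    prS (fun i : Fin M => OO 1 k (t i)) i (sec j₀ hU t s) = s i • eg j₀ (t i) hU := by
  rw [sec, prS_sum]

theorem sec_inj {M : ℕ} (t : Fin M → ℤ) {s s' : Fin M → Γ(CohB1.ProjSpace 1 k, U)}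
    (h : sec j₀ hU t s = sec j₀ hU t s') (i : Fin M) : s i = s' i := by
  have h1 := congrArg (prS (fun i : Fin M => OO 1 k (t i)) i) h
  rw [prS_sec, prS_sec] at h1
  exact smul_eg_injective j₀ hU h1

theorem sec_zero {M : ℕ} (t : Fin M → ℤ) : sec j₀ hU t (fun _ => 0) = 0 := by
  rw [sec]
  refine Finset.sum_eq_zero fun i _ => ?_
  rw [zero_smul, inS, map_zero]

theorem mm_app (g : Γ(CohB1.ProjSpace 1 k, U)) :
    (mm k a hD hc).app U (g • eg j₀ c hU) = sec j₀ hU (fun _ : Fin (N + 1) => -1) fun i =>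
      g * (rho j₀ hU (MvPolynomial.X 0) ^ pA a i * rho j₀ hU (MvPolynomial.X 1) ^ pB a i) := by
  rw [mm, sum_app, sec]
  refine Finset.sum_congr rfl fun i _ => ?_
  change (Sigma.ι (fun _ : Fin (N + 1) => OO 1 k (-1)) i).app U
    ((mulF (mi k a hD i) c (-1) hc).app U (g • eg j₀ c hU)) = _
  rw [mulF_smul_eg, inS, mi, map_mul, map_pow, map_pow]

theorem MM_app (s : Fin (N + 1) → Γ(CohB1.ProjSpace 1 k, U)) :
    (MM k a ht).app U (sec j₀ hU (fun _ => -1) s) = sec j₀ hU t fun j =>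
      rho j₀ hU (MvPolynomial.X 0) ^ a j * s j.castSucc - rho j₀ hU (MvPolynomial.X 1) ^ a j * s j.succ := by
  rw [MM, sum_app, sec]
  refine Finset.sum_congr rfl fun j _ => ?_
  change (Sigma.ι (fun j : Fin N => OO 1 k (t j)) j).app U
    ((mulF (xp k 0 (a j)) (-1) (t j) (ht j)).app U (prS (fun _ : Fin (N + 1) => OO 1 k (-1)) j.castSucc
        (sec j₀ hU (fun _ => -1) s)) -
      (mulF (xp k 1 (a j)) (-1) (t j) (ht j)).app U (prS (fun _ : Fin (N + 1) => OO 1 k (-1)) j.succ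
        (sec j₀ hU (fun _ => -1) s))) = _
  rw [prS_sec, prS_sec, mulF_smul_eg, mulF_smul_eg, inS, ← sub_smul, xp, xp, map_pow, map_pow,
    mul_comm (s j.castSucc), mul_comm (s j.succ)]

end coords

theorem mm_MM : mm k a hD hc ≫ MM k a ht = 0 := by
  refine hom_eq_zero _ fun j V hV s => ?_
  obtain ⟨g, rfl⟩ := exists_smul_eg j hV.2 s
  change (MM k a ht).app V ((mm k a hD hc).app V (g • eg j c hV.2)) = 0
  rw [mm_app, MM_app, ← sec_zero j hV.2 t]
  congr 1
  funext i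
  have h := rel a (u := rho j hV.2 (MvPolynomial.X 0)) (v := rho j hV.2 (MvPolynomial.X 1)) i
  linear_combination g * h

theorem exact : (ShortComplex.mk (mm k a hD hc) (MM k a ht) (mm_MM k a hD hc ht)).Exact := by
  refine exact_of_small _ fun j V hV y hy => ?_
  obtain ⟨s, rfl⟩ := exists_sec j hV.2 (fun _ => -1) y
  change (MM k a ht).app V (sec j hV.2 (fun _ => -1) s) = 0 at hy
  rw [MM_app, ← sec_zero j hV.2 t] at hy
  obtain ⟨g, hg⟩ := exists_of_ker a (rho_unit j hV.2) s fun i => sec_inj j hV.2 t hy i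
  refine ⟨g • eg j c hV.2, ?_⟩
  refine (mm_app a hD hc j hV.2 g).trans ?_
  congr 1
  funext i
  exact (hg i).symm

theorem epi : Epi (MM k a ht) := by
  refine epi_of_small _ fun j V hV y => ?_
  obtain ⟨w, rfl⟩ := exists_sec j hV.2 t y
  obtain ⟨s, hs⟩ := exists_sol a (rho_unit j hV.2) w
  refine ⟨sec j hV.2 (fun _ => -1) s, ?_⟩
  rw [MM_app]
  congr 1
  funext i
  exact hs i

/-- A morphism killed by the first map factors through the second. -/
theorem exists_factor {E : (CohB1.ProjSpace 1 k).Modules} (f : F0 k N ⟶ E) (hf : mm k a hD hc ≫ f = 0) [Epi f] :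
    ∃ g : F1 k t ⟶ E, MM k a ht ≫ g = f ∧ Epi g := by
  have h1 := exact k a hD hc ht
  have h2 : Epi (ShortComplex.mk (mm k a hD hc) (MM k a ht) (mm_MM k a hD hc ht)).g := epi k a ht
  refine ⟨h1.desc f hf, h1.g_desc f hf, ?_⟩
  have h3 := h1.g_desc f hf
  exact epi_of_epi_fac h3

end K581.LineExact
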