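import Groth.Agent.Fano.K581.LineEmb
import Groth.Agent.Fano.K581.LineExact
import Groth.Agent.Fano.K560.ConSeq
import Groth.Agent.RegImm.K559.ConSeq

/-!
# The conormal module of the coordinate line in a hypersurface `∑ C_l y_l = 0`

`C_l` restricts to `x_0^{A_l} x_1^{B_l}` on the line: then the conormal module is `⊕ O(-1 + a_j)`.
-/

set_option autoImplicit false

universe u

open CategoryTheory CategoryTheory.Limits AlgebraicGeometry TopologicalSpace Opposite

namespace K581.LineCon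

open LefPen K715.Geo K715.Gens K715.Pair K715.Res K715.SumSec K715.CIConormal K560.FormMaps
open K697.Lin K697.LinSeq K581.LineAlg K581.LineEmb K581.LineExact
open Groth.Agent.Lefpen.H705.HypIdeal Groth.Agent.Lefpen.H705.ChartPoly
open Groth.Agent.Fdesc.LocGen Groth.Agent.Sga5

variable {k : Type u} [Field k] {N : ℕ}

/-- The linear equations generate the ideal of the line. -/
theorem exists_gen {j : CohB1.ProjSpace 1 k ⟶ CohB1.ProjSpace (N + 2) k}
    (hj : j = emb (pr k N) (pr_surjective k N)) :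
    ∃ l : (∐ fun _ : Fin (N + 1) => OO (N + 2) k (-((1 : ℕ) : ℤ))) ⟶ ClSub.idealMod j.ker, Epi l ∧
      l ≫ ClSub.idealModι j.ker = co (yy k N) := by
  subst hj
  exact Groth.Agent.Krr.H478.ImIdeal.exists_factor (co (yy k N)) (emb (pr k N) (pr_surjective k N)).ker fun U => by
    rw [ker_eq]
    exact ideal_eq_rg (yy k N) U

variable {D d : ℕ} {a : Fin N → ℕ} (hD : ∑ j, a j = D)

/-- The conormal module is a quotient of `O(-1)^{N+1}`. -/
theorem exists_epi (G : Form (N + 2) k d) (C : Fin (N + 1) → Form (N + 2) k D)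
    (hG : G.1 = ∑ l, (C l).1 * (yy k N l).1) (hC : ∀ l, gr (pr k N) (C l).1 = (mi k a hD l).1)
    {X : Scheme.{u}} (e : X ⟶ CohB1.ProjSpace (N + 2) k) [IsClosedImmersion e]
    (hz0 : (0 : ℤ) = -(d : ℤ) + d)
    (he : ∃ h : OO (N + 2) k (-(d : ℤ)) ⟶ ClSub.idealMod e.ker, Epi h ∧
      h ≫ ClSub.idealModι e.ker = mulO G (-(d : ℤ)) hz0)
    (i : CohB1.ProjSpace 1 k ⟶ X) [IsClosedImmersion i] (hi : i ≫ e = emb (pr k N) (pr_surjective k N))
    (hc : -1 = -(d : ℤ) + D) :
    ∃ f : F0 k N ⟶ Omega.conormal i, Epi f ∧ mm k a hD hc ≫ f = 0 := by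
  obtain ⟨l, hl, hl'⟩ := exists_gen hi
  obtain ⟨h, hh, hh'⟩ := he
  obtain ⟨ι, hι⟩ := K560.ConLift.exists_incl (Scheme.Hom.le_ker_comp i e)
  obtain ⟨T, hT⟩ := exists_pull (pr k N) (pr_surjective k N) hi
  have w1 : (i ≫ e) ≫ 𝟙 _ = i ≫ e := Category.comp_id _
  have w2 : i ≫ e = 𝟙 _ ≫ (i ≫ e) := (Category.id_comp _).symm
  have ha := K583.ConMap.isConormalMap w1
  have hb := K583.ConMap.isConormalMap w2
  have ha' := K560.ConLift.eq_pullbackComp i e _ ha ι hι
  have hz := K559.ConSeq.comp_zero ha hb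
  have hE := (K559.ConSeq.exact_epi ha hb).2
  let ψ0 := (Scheme.Modules.pullbackId (CohB1.ProjSpace 1 k)).inv.app (Omega.conormal (i ≫ e)) ≫
    Groth.Agent.Grpsch.ConormalIso.conormalMap w2
  have hz' : Groth.Agent.Grpsch.ConormalIso.conormalMap w1 ≫ ψ0 = 0 := hz
  have hE0 : Epi ψ0 := hE
  let r := i ≫ e
  let ψ : (Scheme.Modules.pullback r).obj (ClSub.idealMod r.ker) ⟶ Omega.conormal i := ψ0
  have hE' : Epi ψ := hE0
  have hιψ : (Scheme.Modules.pullback r).map ι ≫ ψ = 0 := by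
    rw [ha'] at hz'
    have h1 : (Scheme.Modules.pullbackComp i e).hom.app (ClSub.idealMod e.ker) ≫
        ((Scheme.Modules.pullback r).map ι ≫ ψ) = 0 := (Category.assoc _ _ _).symm.trans hz'
    rwa [← cancel_epi ((Scheme.Modules.pullbackComp i e).hom.app (ClSub.idealMod e.ker)), comp_zero]
  let sι : ∀ m : Fin (N + 1), OO (N + 2) k (-1) ⟶ ∐ fun _ : Fin (N + 1) => OO (N + 2) k (-((1 : ℕ) : ℤ)) :=
    fun m => Sigma.ι (fun _ : Fin (N + 1) => OO (N + 2) k (-((1 : ℕ) : ℤ))) m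
  let fl : ∀ m : Fin (N + 1), OO 1 k (-1) ⟶ Omega.conormal i := fun m =>
    (T (-1)).inv ≫ (Scheme.Modules.pullback r).map (sι m ≫ l) ≫ ψ
  have hs2 : h ≫ ι = ∑ m, mulF (C m) (-(d : ℤ)) (-1) hc ≫ sι m ≫ l := by
    rw [← cancel_mono (ClSub.idealModι (i ≫ e).ker), Category.assoc, hι, hh', Preadditive.sum_comp]
    have h1 := sum_mulF_mulO C (yy k N) G hG (a := -(d : ℤ)) (fun _ => -1) (fun _ => hc) (fun _ => by norm_num) hz0
    rw [← h1]
    refine Finset.sum_congr rfl fun m _ => ?_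
    rw [Category.assoc, Category.assoc, hl']
    congr 1
    exact (Sigma.ι_desc (fun m : Fin (N + 1) => mulO (yy k N m) (-((1 : ℕ) : ℤ)) (by omega)) m).symm
  refine ⟨Sigma.desc fl, ?_, ?_⟩
  · let P := PreservesCoproduct.iso (Scheme.Modules.pullback r) (fun _ : Fin (N + 1) => OO (N + 2) k (-((1 : ℕ) : ℤ)))
    let Tm : (∐ fun _ : Fin (N + 1) => (Scheme.Modules.pullback r).obj (OO (N + 2) k (-((1 : ℕ) : ℤ)))) ⟶ F0 k N :=
      Limits.Sigma.map fun _ => (T (-1)).hom
    have h1 : P.hom ≫ Tm ≫ Sigma.desc fl = (Scheme.Modules.pullback r).map l ≫ ψ := by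
      rw [← cancel_epi P.inv, P.inv_hom_id_assoc]
      refine Sigma.hom_ext _ _ fun m => ?_
      have h2 : Sigma.ι (fun _ : Fin (N + 1) => (Scheme.Modules.pullback r).obj (OO (N + 2) k (-((1 : ℕ) : ℤ)))) m ≫
          P.inv = (Scheme.Modules.pullback r).map (sι m) := by
        have h3 : P.inv = sigmaComparison (Scheme.Modules.pullback r) _ := PreservesCoproduct.inv_hom _ _
        rw [h3]
        exact ι_comp_sigmaComparison _ _ _
      rw [← Category.assoc, ← Category.assoc, ← Category.assoc, h2]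
      have h4 : Sigma.ι (fun _ : Fin (N + 1) => (Scheme.Modules.pullback r).obj (OO (N + 2) k (-((1 : ℕ) : ℤ)))) m ≫
          Tm = (T (-1)).hom ≫ Sigma.ι (fun _ : Fin (N + 1) => OO 1 k (-1)) m := Sigma.ι_map _ _
      rw [h4, Category.assoc, Sigma.ι_desc, ← Functor.map_comp]
      exact (T (-1)).hom_inv_id_assoc _
    have h2 : Epi ((Scheme.Modules.pullback r).map l) := inferInstance
    have h3 : Epi ((Scheme.Modules.pullback r).map l ≫ ψ) := epi_comp _ _
    have h4 : (P.hom ≫ Tm) ≫ Sigma.desc fl = (Scheme.Modules.pullback r).map l ≫ ψ := by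
      rw [Category.assoc, h1]
    exact epi_of_epi_fac h4
  · rw [← cancel_epi (T (-(d : ℤ))).hom, comp_zero, mm, Preadditive.sum_comp, Preadditive.comp_sum]
    have h1 : ∀ m, (T (-(d : ℤ))).hom ≫ (mulF (mi k a hD m) (-(d : ℤ)) (-1) hc ≫
        Sigma.ι (fun _ : Fin (N + 1) => OO 1 k (-1)) m) ≫ Sigma.desc fl =
        (Scheme.Modules.pullback r).map (mulF (C m) (-(d : ℤ)) (-1) hc ≫ sι m ≫ l) ≫ ψ := by
      intro m
      have h2 : imF (pr k N) (C m) = mi k a hD m := Subtype.ext (hC m)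
      have h3 := hT (C m) (-(d : ℤ)) (-1) hc
      rw [h2] at h3
      rw [Category.assoc, Sigma.ι_desc, ← Category.assoc, ← h3, Category.assoc]
      have h4 : (T (-1)).hom ≫ fl m = (Scheme.Modules.pullback r).map (sι m ≫ l) ≫ ψ := (T (-1)).hom_inv_id_assoc _
      rw [h4, Functor.map_comp _ (mulF (C m) (-(d : ℤ)) (-1) hc)]
      exact (Category.assoc _ _ _).symm
    rw [Finset.sum_congr rfl fun m _ => h1 m, ← Preadditive.sum_comp, ← Functor.map_sum, ← hs2, Functor.map_comp,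
      Category.assoc, hιψ, comp_zero]

theorem isFinLocFreeOfRank_F1 (t : Fin N → ℤ) : FlatMod.IsFinLocFreeOfRank N (F1 k t) :=
  K715.SumSec.isFinLocFreeOfRank (fun j : Fin (1 + 1) => chart 1 k j)
    (fun x => by
      have h1 : x ∈ (⨆ j : Fin (1 + 1), chart 1 k j) := by rw [iSup_chart]; trivial
      exact Opens.mem_iSup.mp h1)
    (fun j i => eg j (t i) (le_refl _)) (fun j i => isGen_eg j _ _)

/-- **The conormal module.** -/
theorem nonempty_iso (G : Form (N + 2) k d) (C : Fin (N + 1) → Form (N + 2) k D)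
    (hG : G.1 = ∑ l, (C l).1 * (yy k N l).1) (hC : ∀ l, gr (pr k N) (C l).1 = (mi k a hD l).1) (hd : d = D + 1)
    (i : CohB1.ProjSpace 1 k ⟶ (hypIdeal G).subscheme) [IsClosedImmersion i]
    (hi : i ≫ (hypIdeal G).subschemeι = emb (pr k N) (pr_surjective k N))
    (hr : FlatMod.IsFinLocFreeOfRank N (Omega.conormal i)) (t : Fin N → ℤ) (ht : ∀ j, t j = -1 + a j) :
    Nonempty (Omega.conormal i ≅ ∐ fun j : Fin N => Twist.twistProjSpace 1 k (t j)) := by
  obtain ⟨f, hf, hf0⟩ := exists_epi hD G C hG hC (hypIdeal G).subschemeι (by omega) (K560.ConLift.exists_hyp G) i hi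
    (by omega)
  obtain ⟨g, -, hg⟩ := exists_factor k a hD _ ht f hf0
  have := Groth.Agent.Krr.H478.EpiIso.isIso_of_epi g (isFinLocFreeOfRank_F1 t) hr
  exact ⟨(asIso g).symm⟩

end K581.LineCon
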