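import Groth.Agent.Fano.K475.ConForm
import Groth.Agent.Fano.K715.CIReg
import Groth.Agent.Fano.K715.Res
import Groth.Agent.VBPn.K697.PullMul
import Groth.Agent.Sga5.ProjConn

/-!
# The coordinate line `x_2 = … = x_n = 0` in `P^n`, `n = N + 2`

* `pr`: the linear map, `emb pr` the line;
* `hypIdeal_le_iff`: `V_+(F)` contains the line iff `gr pr F = 0`;
* `ker_eq`: the ideal of the line;
* `exists_pull`: the pull-backs of `O(b)` and of multiplication by forms.
-/

set_option autoImplicit false

universe u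

open CategoryTheory CategoryTheory.Limits AlgebraicGeometry TopologicalSpace Opposite

namespace K581.LineEmb

open LefPen K715.Geo K715.Gens K715.Res K697.Lin K697.LinSeq K697.PullMul
open Groth.Agent.Lefpen.H705.HypIdeal Groth.Agent.Lefpen.H705.ChartPoly
open Groth.Agent.Fdesc.LocGen Groth.Agent.Sga5 Groth.Agent.Ega3A.TwistBC Groth.Agent.VarietyB.TwistMul

section Gen

variable {k : Type u} [Field k] {n m : ℕ} (A : (Fin (n + 1) → k) →ₗ[k] (Fin (m + 1) → k)) (hA : Function.Surjective A)

/-- The values of the pulled back functions. -/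
theorem app_val {U : (CohB1.ProjSpace n k).Opens} (c : Γ(CohB1.ProjSpace n k, U)) (y : (emb A hA ⁻¹ᵁ U : (CohB1.ProjSpace m k).Opens)) :
    (((emb A hA).app U c).1 y).val =
      locMap (gr A) (Groth.Agent.Sga5.ProjSurj.irrelevant_le_map (degSurj hA)) y.1 (c.1 ⟨emb A hA y.1, y.2⟩).val :=
  (locMap_val (gr A) (Groth.Agent.Sga5.ProjSurj.irrelevant_le_map (degSurj hA)) y.1 _).symm

theorem app_dehom_val {d : ℕ} (F : Form n k d) (j : Fin (n + 1)) (y : (emb A hA ⁻¹ᵁ chart n k j : (CohB1.ProjSpace m k).Opens))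
    (hy : gr A (MvPolynomial.X j) ^ d ∉ ProjectiveSpectrum.asHomogeneousIdeal y.1) :
    (((emb A hA).app (chart n k j) (dehom F j)).1 y).val =
      Localization.mk (gr A F.1) ⟨gr A (MvPolynomial.X j) ^ d, hy⟩ := by
  rw [app_val]
  have h1 := dehom_val F j ⟨emb A hA y.1, y.2⟩
  refine (congrArg _ h1).trans ?_
  refine (locMap_mk (gr A) (Groth.Agent.Sga5.ProjSurj.irrelevant_le_map (degSurj hA)) y.1 F.1 _ _).trans ?_
  congr 1
  exact Subtype.ext (map_pow (gr A) _ _)

theorem mem_chart (j : Fin (n + 1)) (y : CohB1.ProjSpace m k) :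
    y ∈ (emb A hA ⁻¹ᵁ chart n k j : (CohB1.ProjSpace m k).Opens) ↔
      gr A (MvPolynomial.X j) ∉ ProjectiveSpectrum.asHomogeneousIdeal (𝒜 := CohB1.polyGrading m k) y := Iff.rfl

theorem pow_notMem {j : Fin (n + 1)} (y : (emb A hA ⁻¹ᵁ chart n k j : (CohB1.ProjSpace m k).Opens)) (d : ℕ) :
    gr A (MvPolynomial.X j) ^ d ∉ ProjectiveSpectrum.asHomogeneousIdeal y.1 := fun h =>
  (mem_chart A hA j y.1).1 y.2 ((ProjectiveSpectrum.isPrime y.1).mem_of_pow_mem d h)

/-- The functions given by forms restricting to zero vanish. -/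
theorem app_rho_eq_zero {d : ℕ} (F : Form n k d) (h : gr A F.1 = 0) (j : Fin (n + 1)) :
    (emb A hA).app (chart n k j) (rho j (le_refl _) F.1) = 0 := by
  rw [rho_form, ores_refl]
  refine section_ext _ _ fun y => ?_
  refine (app_dehom_val A hA F j y (pow_notMem A hA y d)).trans ?_
  rw [h, Localization.mk_zero]
  exact (HomogeneousLocalization.val_zero (x := (ProjectiveSpectrum.asHomogeneousIdeal y.1).toIdeal.primeCompl)
      (𝒜 := CohB1.polyGrading m k)).symm

theorem eq_zero_of_app_rho {d : ℕ} (F : Form n k d) (j : Fin (n + 1)) (hj : gr A (MvPolynomial.X j) ≠ 0)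
    (h : (emb A hA).app (chart n k j) (rho j (le_refl _) F.1) = 0) : gr A F.1 = 0 := by
  rw [rho_form, ores_refl] at h
  let x : CohB1.ProjSpace m k := Groth.Agent.Sga5.ProjConn.genPt m k
  have hx : x ∈ (emb A hA ⁻¹ᵁ chart n k j : (CohB1.ProjSpace m k).Opens) := by
    rw [mem_chart]
    intro h0
    exact hj ((Submodule.mem_bot _).1 h0)
  let y : (emb A hA ⁻¹ᵁ chart n k j : (CohB1.ProjSpace m k).Opens) := ⟨x, hx⟩
  have h1 := app_dehom_val A hA F j y (pow_notMem A hA y d)
  rw [h] at h1
  have h2 : Localization.mk (gr A F.1) ⟨gr A (MvPolynomial.X j) ^ d, pow_notMem A hA y d⟩ =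
      (0 : Twist.Loc (CohB1.polyGrading m k) y.1) := by
    refine h1.symm.trans ?_
    exact HomogeneousLocalization.val_zero (x := (ProjectiveSpectrum.asHomogeneousIdeal y.1).toIdeal.primeCompl)
      (𝒜 := CohB1.polyGrading m k)
  rw [Localization.mk_eq_mk', IsLocalization.mk'_eq_zero_iff] at h2
  obtain ⟨s, hs⟩ := h2
  refine (mul_eq_zero.1 hs).resolve_left fun h3 => s.2 ?_
  rw [h3]
  exact zero_mem _

/-- A hypersurface contains the linear subspace if its equation restricts to zero. -/
theorem hypIdeal_le {d : ℕ} (F : Form n k d) (h : gr A F.1 = 0) : hypIdeal F ≤ (emb A hA).ker := by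
  refine Scheme.IdealSheafData.le_of_iSup_eq_top
    (fun j : Fin (n + 1) => (⟨chart n k j, isAffineOpen_chart j⟩ : (CohB1.ProjSpace n k).affineOpens))
    iSup_chart fun j => ?_
  rw [ideal_hyp j _ le_rfl, Ideal.span_le, Set.singleton_subset_iff, Scheme.Hom.ker_apply]
  exact app_rho_eq_zero A hA F h j

theorem mulF_eq {d : ℕ} (F : Form n k d) (a b : ℤ) (h : b = a + d) :
    mulF F a b h = mulMap (𝒜 := CohB1.polyGrading n k) F h.symm := by
  apply Scheme.Modules.hom_ext
  intro U
  ext s
  apply vl_ext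
  intro x
  rw [vl_mulF]
  rfl

/-- The restriction of a form. -/
noncomputable def imF {d : ℕ} (F : Form n k d) : Form m k d := ⟨gr A F.1, (gr A).map_mem F.2⟩

/-- The pull-backs of the twists, and of multiplication by forms. -/
theorem exists_pull {r : CohB1.ProjSpace m k ⟶ CohB1.ProjSpace n k} (hr : r = emb A hA) :
    ∃ T : ∀ b : ℤ, (Scheme.Modules.pullback r).obj (OO n k b) ≅ OO m k b,
      ∀ {d : ℕ} (F : Form n k d) (a b : ℤ) (h : b = a + d),
        (Scheme.Modules.pullback r).map (mulF F a b h) ≫ (T b).hom = (T a).hom ≫ mulF (imF A F) a b h := by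
  subst hr
  refine ⟨fun b => pullTw A hA b, fun {d} F a b h => ?_⟩
  rw [mulF_eq, mulF_eq]
  exact restE_mulMap A hA F h.symm

end Gen

section Line

variable (k : Type u) [Field k] (N : ℕ)

/-- `v ↦ (v_0, v_1)` -/
noncomputable def pr : (Fin (N + 2 + 1) → k) →ₗ[k] (Fin (1 + 1) → k) :=
  LinearMap.funLeft k k (fun m : Fin (1 + 1) => (Fin.castLE (by omega) m : Fin (N + 2 + 1)))

theorem pr_surjective : Function.Surjective (pr k N) :=
  LinearMap.funLeft_surjective_of_injective k k _ (Fin.castLE_injective _)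

/-- The indices of the remaining coordinates. -/
def yi (l : Fin (N + 1)) : Fin (N + 2 + 1) := l.succ.succ

theorem gr_castLE (m : Fin (1 + 1)) :
    gr (pr k N) (MvPolynomial.X (Fin.castLE (by omega) m : Fin (N + 2 + 1))) = MvPolynomial.X m := by
  have h : pr k N (Pi.single (Fin.castLE (by omega) m : Fin (N + 2 + 1)) 1) = Pi.single m 1 := by
    funext m'
    change (Pi.single (Fin.castLE (by omega) m : Fin (N + 2 + 1)) (1 : k) : _ → k) (Fin.castLE (by omega) m') = _
    rw [Pi.single_apply, Pi.single_apply]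
    congr 1
    simp
  rw [gr_apply, subst_X, h, lf_single]

theorem gr_X_zero : gr (pr k N) (MvPolynomial.X 0) = MvPolynomial.X 0 := gr_castLE k N 0

theorem gr_X_one : gr (pr k N) (MvPolynomial.X 1) = MvPolynomial.X 1 := gr_castLE k N 1

theorem gr_yi (l : Fin (N + 1)) : gr (pr k N) (MvPolynomial.X (yi N l)) = 0 := by
  have h : pr k N (Pi.single (yi N l) 1) = 0 := by
    funext m'
    change (Pi.single (yi N l) (1 : k) : _ → k) (Fin.castLE (by omega) m') = _
    rw [Pi.single_apply, if_neg]
    · rfl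
    · intro h
      have h1 := congrArg Fin.val h
      rw [Fin.val_castLE, yi, Fin.val_succ, Fin.val_succ] at h1
      have := m'.2
      omega
  rw [gr_apply, subst_X, h, lf_zero]

theorem cases3 (j : Fin (N + 2 + 1)) : j = 0 ∨ j = 1 ∨ ∃ l, j = yi N l := by
  refine Fin.cases (Or.inl rfl) (fun j => ?_) j
  refine Fin.cases (Or.inr (Or.inl rfl)) (fun l => Or.inr (Or.inr ⟨l, rfl⟩)) j

/-- The linear equations of the line. -/
noncomputable def yy (l : Fin (N + 1)) : Form (N + 2) k 1 :=
  ⟨MvPolynomial.X (yi N l), MvPolynomial.isHomogeneous_X k _⟩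

/-- Forms restricting to zero are in the ideal of the line. -/
theorem mem_span (F : MvPolynomial (Fin (N + 2 + 1)) k) (h : gr (pr k N) F = 0) :
    F ∈ Ideal.span (Set.range fun l => (yy k N l).1) := by
  let I : Ideal (MvPolynomial (Fin (N + 2 + 1)) k) := Ideal.span (Set.range fun l => (yy k N l).1)
  let ρ : MvPolynomial (Fin (1 + 1)) k →ₐ[k] MvPolynomial (Fin (N + 2 + 1)) k :=
    MvPolynomial.rename (Fin.castLE (by omega))
  have key : (Ideal.Quotient.mkₐ k I) = (Ideal.Quotient.mkₐ k I).comp (ρ.comp (subst (pr k N))) := by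
    apply MvPolynomial.algHom_ext
    intro j
    rw [AlgHom.comp_apply, AlgHom.comp_apply, ← gr_apply]
    rcases cases3 N j with rfl | rfl | ⟨l, rfl⟩
    · rw [gr_X_zero, MvPolynomial.rename_X]
      rfl
    · rw [gr_X_one, MvPolynomial.rename_X]
      rfl
    · rw [gr_yi, map_zero, map_zero]
      exact Ideal.Quotient.eq_zero_iff_mem.mpr (Ideal.subset_span ⟨l, rfl⟩)
  have h3 : Ideal.Quotient.mkₐ k I F = 0 := by
    rw [key, AlgHom.comp_apply, AlgHom.comp_apply, ← gr_apply, h, map_zero, map_zero]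
  exact Ideal.Quotient.eq_zero_iff_mem.mp h3

/-- The ideal of the line. -/
theorem ker_eq : (emb (pr k N) (pr_surjective k N)).ker = ciIdeal (yy k N) := by
  apply le_antisymm
  · refine Scheme.IdealSheafData.le_of_iSup_eq_top
      (fun j : Fin (N + 2 + 1) => (⟨chart (N + 2) k j, isAffineOpen_chart j⟩ : (CohB1.ProjSpace (N + 2) k).affineOpens))
      iSup_chart fun j => ?_
    rw [K715.CIReg.ideal_eqs (yy k N) j _ le_rfl, K715.CIReg.eqs, K715.CIReg.ofList_ofFn, Scheme.Hom.ker_apply]
    rcases cases3 N j with hj | hj | ⟨l, rfl⟩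
    pick_goal 3
    · have h1 : (1 : Γ(CohB1.ProjSpace (N + 2) k, chart (N + 2) k (yi N l))) ∈
          Ideal.span (Set.range fun i => rho (yi N l) (le_refl (chart (N + 2) k (yi N l))) (yy k N i).1) := by
        refine Ideal.subset_span ⟨l, ?_⟩
        change rho (yi N l) (le_refl (chart (N + 2) k (yi N l))) (MvPolynomial.X (yi N l)) = 1
        rw [rho, RingHom.comp_apply, ProjChart.dehom_X_self, map_one]
      intro x _
      have h2 := Ideal.mul_mem_left _ x h1
      rwa [mul_one] at h2
    all_goals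
      intro x hx
      obtain ⟨e, G, rfl⟩ := K475.ConForm.exists_form j x
      have hG : K475.ConForm.dl k j G.1 = rho j (le_refl (chart (N + 2) k j)) G.1 := by
        rw [K475.ConForm.dl_form, rho_form, ores_refl]
      rw [hG] at hx ⊢
      have h1 : gr (pr k N) G.1 = 0 := by
        refine eq_zero_of_app_rho (pr k N) (pr_surjective k N) G j ?_ hx
        subst hj
        first | rw [gr_X_zero] | rw [gr_X_one]
        exact MvPolynomial.X_ne_zero _
      have h2 := Ideal.mem_map_of_mem (rho j (le_refl (chart (N + 2) k j))) (mem_span k N G.1 h1)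
      rw [Ideal.map_span, ← Set.range_comp] at h2
      exact h2
  · exact iSup_le fun l => hypIdeal_le (pr k N) (pr_surjective k N) (yy k N l) (gr_yi k N l)

end Line

end K581.LineEmb
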