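import Groth.Agent.Lefpen.H702.Generic
import Groth.Agent.Lefpen.H703.NondegQuadCrit
import Groth.Agent.Fano.K581.LineEmb
import Groth.Agent.Fano.K581.LineExact

/-!
# Smooth hypersurfaces containing the coordinate line with prescribed first order part

`G = ∑ x_0^{A_l} x_1^{B_l} y_l + ∑ λ_l y_l^{D+1}`, `D = ∑ a_j`, is smooth for general `λ` if `D ≥ 1`, and for `λ = 0`
if `D = 0`.
-/

set_option autoImplicit false

universe u

open CategoryTheory AlgebraicGeometry

namespace K581.LineSm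

open MvPolynomial LefPen K697.Lin K581.LineAlg K581.LineEmb K581.LineExact
open Groth.Agent.Lefpen.H702.Generic Groth.Agent.Lefpen.H703 Groth.Agent.Lefpen.H703.NondegOpen

variable {k : Type u} [Field k] {N : ℕ} (a : Fin N → ℕ)

variable (k) in
/-- `x_0 ^ A_l x_1 ^ B_l` -/
noncomputable def mN (l : Fin (N + 1)) : MvPolynomial (Fin (N + 2 + 1)) k := X 0 ^ pA a l * X 1 ^ pB a l

variable (k) in
/-- `∑ x_0 ^ A_l x_1 ^ B_l y_l` -/
noncomputable def PP : MvPolynomial (Fin (N + 2 + 1)) k := ∑ l, mN k a l * X (yi N l)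

variable (k) (N) in
/-- `y_l ^ d` -/
noncomputable def QQ (d : ℕ) (l : Fin (N + 1)) : MvPolynomial (Fin (N + 2 + 1)) k := X (yi N l) ^ d

section AlgInd

variable {K : Type u} [Field K] [Algebra k K] {D : ℕ} (hD : ∑ j, a j = D)

omit [Field K] [Algebra k K] in
theorem yi_injective : Function.Injective (yi N) := fun i j h => by
  have h1 := Fin.succ_injective _ h
  exact Fin.succ_injective _ h1

theorem aeval_pderiv_PP (p : Fin (N + 2 + 1) → K) (hp : ∀ l, p (yi N l) = 0) (s : Fin (N + 1)) :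
    aeval p (pderiv (yi N s) (PP k a)) = p 0 ^ pA a s * p 1 ^ pB a s := by
  classical
  rw [PP, map_sum, map_sum, Finset.sum_eq_single s]
  · rw [Derivation.leibniz, pderiv_X_self, smul_eq_mul, smul_eq_mul, mul_one, map_add, map_mul, aeval_X, hp, zero_mul,
      add_zero, mN, map_mul, map_pow, map_pow, aeval_X, aeval_X]
  · intro l _ hl
    rw [Derivation.leibniz, pderiv_X_of_ne (fun h => hl (yi_injective h)), smul_zero, zero_add, smul_eq_mul, map_mul,
      aeval_X, hp, zero_mul]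
  · intro h
    exact absurd (Finset.mem_univ s) h

theorem aeval_pderiv_QQ (p : Fin (N + 2 + 1) → K) (hp : ∀ l, p (yi N l) = 0) {d : ℕ} (hd : 2 ≤ d)
    (i : Fin (N + 2 + 1)) (l : Fin (N + 1)) : aeval p (pderiv i (QQ k N d l)) = 0 := by
  rw [QQ, Derivation.leibniz_pow, map_nsmul, smul_eq_mul, map_mul, map_pow, aeval_X, hp, zero_pow (by omega),
    zero_mul, smul_zero]

include hD in
theorem not_algInd [CharZero k] (hD1 : 1 ≤ D) (y : Fin (N + 1) → K) (p : Fin (N + 2 + 1) → K)
    (h0 : aeval p (PP k a) + ∑ l, y l * aeval p (QQ k N (D + 1) l) = 0)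
    (h1 : ∀ i, aeval p (pderiv i (PP k a)) + ∑ l, y l * aeval p (pderiv i (QQ k N (D + 1) l)) = 0)
    (hp : p ≠ 0) : ¬ AlgebraicIndependent k y := by
  classical
  intro hy
  have hz : ∀ s, p (yi N s) = 0 := by
    intro s
    obtain ⟨δ, hδ⟩ := exists_derivation y hy (Pi.single s 1)
    have h2 := congrArg δ h0
    rw [map_add, map_sum, map_zero, derivation_aeval] at h2
    have h3 : ∀ l, δ (y l * aeval p (QQ k N (D + 1) l)) =
        y l * ∑ i, aeval p (pderiv i (QQ k N (D + 1) l)) * δ (p i) +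
          (Pi.single s (1 : K) : Fin (N + 1) → K) l * aeval p (QQ k N (D + 1) l) := by
      intro l
      rw [Derivation.leibniz, derivation_aeval, hδ, smul_eq_mul, smul_eq_mul]
      ring
    rw [Finset.sum_congr rfl fun l _ => h3 l, Finset.sum_add_distrib, ← add_assoc] at h2
    have h4 : ∑ i, aeval p (pderiv i (PP k a)) * δ (p i) +
        ∑ l, y l * ∑ i, aeval p (pderiv i (QQ k N (D + 1) l)) * δ (p i) = 0 := by
      have h5 : ∑ l, y l * ∑ i, aeval p (pderiv i (QQ k N (D + 1) l)) * δ (p i) =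
          ∑ i, (∑ l, y l * aeval p (pderiv i (QQ k N (D + 1) l))) * δ (p i) := by
        simp only [Finset.mul_sum, Finset.sum_mul]
        rw [Finset.sum_comm]
        exact Finset.sum_congr rfl fun i _ => Finset.sum_congr rfl fun l _ => by ring
      rw [h5, ← Finset.sum_add_distrib]
      refine Finset.sum_eq_zero fun i _ => ?_
      rw [← add_mul, h1, zero_mul]
    rw [h4, zero_add, Finset.sum_eq_single s, Pi.single_eq_same, one_mul, QQ, map_pow, aeval_X] at h2
    · exact pow_eq_zero_iff (by omega) |>.1 h2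
    · intro l _ hl
      rw [Pi.single_eq_of_ne hl, zero_mul]
    · intro h
      exact absurd (Finset.mem_univ s) h
  have hm : ∀ s, p 0 ^ pA a s * p 1 ^ pB a s = 0 := by
    intro s
    have h2 := h1 (yi N s)
    rw [aeval_pderiv_PP a p hz] at h2
    rw [← h2]
    symm
    rw [add_eq_left]
    exact Finset.sum_eq_zero fun l _ => by rw [aeval_pderiv_QQ p hz (by omega), mul_zero]
  have hp1 : p 1 = 0 := by
    have h2 := hm 0
    rw [pA_zero, pow_zero, one_mul, pB_zero, hD] at h2
    exact pow_eq_zero_iff (by omega) |>.1 h2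
  have hp0 : p 0 = 0 := by
    have h2 := hm (Fin.last N)
    rw [pA_last, pB_last, pow_zero, mul_one, hD] at h2
    exact pow_eq_zero_iff (by omega) |>.1 h2
  apply hp
  funext j
  rcases cases3 N j with rfl | rfl | ⟨l, rfl⟩
  · exact hp0
  · exact hp1
  · exact hz l

end AlgInd

section System

variable (k) in
/-- A polynomial linear in the parameters. -/
noncomputable def lp (F : MvPolynomial (Fin (N + 2 + 1)) k) (Q : Fin (N + 1) → MvPolynomial (Fin (N + 2 + 1)) k) :
    MvPolynomial (Fin (N + 1) ⊕ Fin (N + 2 + 1)) k :=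
  rename Sum.inr F + ∑ l, X (Sum.inl l) * rename Sum.inr (Q l)

theorem aeval_lp {K : Type u} [Field K] [Algebra k K] (F : MvPolynomial (Fin (N + 2 + 1)) k)
    (Q : Fin (N + 1) → MvPolynomial (Fin (N + 2 + 1)) k) (y : Fin (N + 1) → K) (p : Fin (N + 2 + 1) → K) :
    aeval (Sum.elim y p) (lp k F Q) = aeval p F + ∑ l, y l * aeval p (Q l) := by
  simp only [lp, map_add, map_sum, map_mul, aeval_rename, Sum.elim_comp_inr, aeval_X, Sum.elim_inl]

theorem exists_lam [CharZero k] {D : ℕ} (hD : ∑ j, a j = D) (hD1 : 1 ≤ D) :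
    ∃ lam : Fin (N + 1) → k, ∀ v : Fin (N + 2 + 1) → k, (∃ c, v c = 1) →
      ¬ (aeval v (PP k a) + ∑ l, lam l * aeval v (QQ k N (D + 1) l) = 0 ∧
        ∀ i, aeval v (pderiv i (PP k a)) + ∑ l, lam l * aeval v (pderiv i (QQ k N (D + 1) l)) = 0) := by
  classical
  have key : ∀ c : Fin (N + 2 + 1), ∃ f : MvPolynomial (Fin (N + 1)) k, f ≠ 0 ∧
      ∀ (y : Fin (N + 1) → k) (p : Fin (N + 2 + 1) → k),
        (∀ P ∈ ({lp k (PP k a) (QQ k N (D + 1)), X (Sum.inr c) - 1} ∪
          Set.range fun i => lp k (pderiv i (PP k a)) fun l => pderiv i (QQ k N (D + 1) l) :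
            Set (MvPolynomial (Fin (N + 1) ⊕ Fin (N + 2 + 1)) k)), aeval (Sum.elim y p) P = 0) → aeval y f = 0 := by
    intro c
    refine exists_polynomial_of_system _ fun K _ _ y p h => ?_
    have h0 := h _ (Or.inl (Or.inl rfl))
    have h2 := h _ (Or.inl (Or.inr rfl))
    have h1 : ∀ i, _ := fun i => h _ (Or.inr ⟨i, rfl⟩)
    rw [aeval_lp] at h0
    rw [map_sub, map_one, aeval_X, Sum.elim_inr, sub_eq_zero] at h2
    refine not_algInd a hD hD1 y p h0 (fun i => ?_) fun hp => ?_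
    · have h3 := h1 i
      rwa [aeval_lp] at h3
    · rw [hp] at h2
      exact zero_ne_one h2
  choose f hf0 hf using key
  have hprod : ∏ c, f c ≠ 0 := Finset.prod_ne_zero_iff.2 fun c _ => hf0 c
  have : Infinite k := Infinite.of_injective (fun n : ℕ => (n : k)) Nat.cast_injective
  obtain ⟨lam, hlam⟩ : ∃ lam : Fin (N + 1) → k, eval lam (∏ c, f c) ≠ 0 := by
    by_contra hcon
    push Not at hcon
    exact hprod (MvPolynomial.funext fun x => by rw [hcon, map_zero])
  refine ⟨lam, ?_⟩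
  rintro v ⟨c, hc⟩ ⟨h0, h1⟩
  apply hlam
  rw [map_prod]
  refine Finset.prod_eq_zero (Finset.mem_univ c) ?_
  have h2 := hf c lam v ?_
  · rwa [aeval_eq_eval] at h2
  · rintro P ((rfl | rfl) | ⟨i, rfl⟩)
    · rw [aeval_lp, h0]
    · rw [map_sub, map_one, aeval_X, Sum.elim_inr, hc, sub_self]
    · beta_reduce
      rw [aeval_lp, h1]

end System

section Final

variable (k) in
/-- The coefficient form with parameter. -/
noncomputable def CC {D : ℕ} (hD : ∑ j, a j = D) (lam : Fin (N + 1) → k) (l : Fin (N + 1)) : Form (N + 2) k D :=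
  ⟨mN k a l + C (lam l) * X (yi N l) ^ D, by
    rw [mem_homogeneousSubmodule]
    refine IsHomogeneous.add ?_ ?_
    · rw [← hD, ← pA_add_pB a l, mN]
      have h1 := (isHomogeneous_X k (0 : Fin (N + 2 + 1))).pow (pA a l)
      have h2 := (isHomogeneous_X k (1 : Fin (N + 2 + 1))).pow (pB a l)
      rw [one_mul] at h1 h2
      exact h1.mul h2
    · have h1 := (isHomogeneous_C (Fin (N + 2 + 1)) (lam l)).mul ((isHomogeneous_X k (yi N l)).pow D)
      rwa [one_mul, zero_add] at h1⟩

theorem gr_CC {D : ℕ} (hD : ∑ j, a j = D) (lam : Fin (N + 1) → k) (h : 1 ≤ D ∨ lam = 0) (l : Fin (N + 1)) :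
    gr (pr k N) (CC k a hD lam l).1 = (mi k a hD l).1 := by
  change gr (pr k N) (mN k a l + C (lam l) * X (yi N l) ^ D) = X 0 ^ pA a l * X 1 ^ pB a l
  have h1 : gr (pr k N) (C (lam l) * X (yi N l) ^ D) = 0 := by
    rcases h with h | rfl
    · rw [map_mul, map_pow, gr_yi, zero_pow (by omega), mul_zero]
    · rw [Pi.zero_apply, map_zero, zero_mul, map_zero]
  rw [map_add, h1, add_zero, mN, map_mul, map_pow, map_pow, gr_X_zero, gr_X_one]

variable (k) in
/-- The form. -/
noncomputable def GG {D : ℕ} (hD : ∑ j, a j = D) (lam : Fin (N + 1) → k) : Form (N + 2) k (D + 1) :=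
  ⟨∑ l, (CC k a hD lam l).1 * (yy k N l).1, by
    rw [mem_homogeneousSubmodule]
    exact IsHomogeneous.sum _ _ _ fun l _ =>
      ((mem_homogeneousSubmodule _ _).1 (CC k a hD lam l).2).mul ((mem_homogeneousSubmodule _ _).1 (yy k N l).2)⟩

theorem GG_eq {D : ℕ} (hD : ∑ j, a j = D) (lam : Fin (N + 1) → k) :
    (GG k a hD lam).1 = PP k a + ∑ l, C (lam l) * QQ k N (D + 1) l := by
  change ∑ l, (mN k a l + C (lam l) * X (yi N l) ^ D) * X (yi N l) = _
  rw [PP, ← Finset.sum_add_distrib]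
  refine Finset.sum_congr rfl fun l _ => ?_
  rw [QQ, pow_succ]
  ring

theorem aeval_pderiv_GG {D : ℕ} (hD : ∑ j, a j = D) (lam : Fin (N + 1) → k) (v : Fin (N + 2 + 1) → k)
    (i : Fin (N + 2 + 1)) : eval v (pderiv i (GG k a hD lam).1) =
      aeval v (pderiv i (PP k a)) + ∑ l, lam l * aeval v (pderiv i (QQ k N (D + 1) l)) := by
  simp only [GG_eq, map_add, map_sum, Derivation.leibniz, pderiv_C, smul_zero, add_zero, smul_eq_mul, map_mul, eval_C,
    aeval_eq_eval, map_zero, mul_zero]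

theorem eval_GG {D : ℕ} (hD : ∑ j, a j = D) (lam : Fin (N + 1) → k) (v : Fin (N + 2 + 1) → k) :
    eval v (GG k a hD lam).1 = aeval v (PP k a) + ∑ l, lam l * aeval v (QQ k N (D + 1) l) := by
  simp only [GG_eq, map_add, map_sum, map_mul, eval_C, aeval_eq_eval]

theorem exists_singFree [CharZero k] {D : ℕ} (hD : ∑ j, a j = D) :
    ∃ lam : Fin (N + 1) → k, (1 ≤ D ∨ lam = 0) ∧ SingFree (GG k a hD lam).1 := by
  by_cases hD1 : 1 ≤ D
  · obtain ⟨lam, hlam⟩ := exists_lam (k := k) a hD hD1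
    refine ⟨lam, Or.inl hD1, fun v hv => ?_⟩
    obtain ⟨c, hc⟩ := Function.ne_iff.1 hv
    have hc' : v c ≠ 0 := hc
    by_contra hcon
    push Not at hcon
    obtain ⟨h0, h1⟩ := hcon
    have hh : (GG k a hD lam).1.IsHomogeneous (D + 1) := (mem_homogeneousSubmodule _ _).1 (GG k a hD lam).2
    refine hlam ((v c)⁻¹ • v) ⟨c, inv_mul_cancel₀ hc'⟩ ⟨?_, fun i => ?_⟩
    · rw [← eval_GG a hD, Elim.eval_smul_of_isHomogeneous hh, h0, mul_zero]
    · rw [← aeval_pderiv_GG a hD, Elim.eval_smul_of_isHomogeneous hh.pderiv, h1, mul_zero]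
  · obtain rfl : D = 0 := by omega
    refine ⟨0, Or.inr rfl, fun v _ => Or.inr ⟨yi N 0, ?_⟩⟩
    have h1 : (GG k a hD 0).1 = ∑ l, X (yi N l) := by
      rw [GG_eq, PP]
      have h2 : ∀ l, mN k a l = 1 := fun l => by
        have h3 := pA_add_pB a l
        rw [mN, show pA a l = 0 by omega, show pB a l = 0 by omega, pow_zero, pow_zero, one_mul]
      simp [h2]
    rw [h1, map_sum, Finset.sum_eq_single 0]
    · rw [pderiv_X_self, map_one]
      exact one_ne_zero
    · intro l _ hl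
      exact pderiv_X_of_ne fun h => hl (yi_injective h)
    · intro h
      exact absurd (Finset.mem_univ _) h

theorem ne_zero_of_singFree {Q : MvPolynomial (Fin (N + 2 + 1)) k} (h : SingFree Q) : Q ≠ 0 := by
  rintro rfl
  rcases h (Pi.single 0 1) (fun h => one_ne_zero ((Pi.single_eq_same (M := fun _ => k) 0 1).symm.trans (congrFun h 0)))
    with h1 | ⟨l, h1⟩
  · exact h1 (map_zero _)
  · exact h1 (by rw [map_zero, map_zero])

end Final

end K581.LineSm
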